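import Cfsg.Agent.InvChar.UniqueInvolution
import Cfsg.Agent.FGSA.Nilpotent
import Mathlib.GroupTheory.Nilpotent
import Mathlib.GroupTheory.SchurZassenhaus
import Mathlib.GroupTheory.NoncommCoprod
import Mathlib.GroupTheory.SpecificGroups.Quaternion

/-!
Nilpotent groups in which every proper centralizer is cyclic.
-/

set_option autoImplicit false
set_option linter.style.haveILetI false

namespace CfsgLib.CyclicCentralizers

open Subgroup QuaternionGroup

theorem isCyclic_of_le {G : Type*} [Group G] {H K : Subgroup G} (h : H ≤ K) [IsCyclic K] : IsCyclic H :=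
  isCyclic_of_injective (Subgroup.inclusion h) (Subgroup.inclusion_injective h)

theorem two_mul_eq_zero {n : ℕ} [NeZero n] (i : ZMod (2 * n)) (h : i + i = 0) :
    i = 0 ∨ i = (n : ZMod (2 * n)) := by
  have hv : ((i.val + i.val : ℕ) : ZMod (2 * n)) = 0 := by
    rw [Nat.cast_add, ZMod.natCast_zmod_val]; exact h
  obtain ⟨t, ht⟩ := (ZMod.natCast_eq_zero_iff _ _).1 hv
  have hlt := ZMod.val_lt i
  have hn := Nat.pos_of_ne_zero (NeZero.ne n)
  have ht2 : t < 2 := by
    by_contra hh
    have : 2 * n * 2 ≤ 2 * n * t := Nat.mul_le_mul_left _ (by omega)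
    omega
  interval_cases t
  · exact Or.inl (by rw [← ZMod.natCast_zmod_val i, show i.val = 0 by omega, Nat.cast_zero])
  · exact Or.inr (by rw [← ZMod.natCast_zmod_val i, show i.val = n by omega])

/-- Proper centralizers in a generalized quaternion group are cyclic. -/
theorem quaternion_centralizer_isCyclic {n : ℕ} [NeZero n] (x : QuaternionGroup n)
    (hx : x ∉ center (QuaternionGroup n)) :
    IsCyclic (centralizer ({x} : Set (QuaternionGroup n))) := by
  cases x with
  | a i =>
    have hle : centralizer ({a i} : Set (QuaternionGroup n)) ≤ zpowers (a 1) := by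
      rintro (k | j) hy
      · refine ⟨(k.val : ℤ), ?_⟩
        change (a 1 : QuaternionGroup n) ^ (k.val : ℤ) = a k
        rw [zpow_natCast, a_one_pow, ZMod.natCast_zmod_val]
      · exfalso
        have h := mem_centralizer_singleton_iff.1 hy
        rw [xa_mul_a, a_mul_xa] at h
        injection h with h
        have h2 : i + i = 0 := by linear_combination h
        apply hx
        rw [mem_center_iff]
        rintro (k | l)
        · rw [a_mul_a, a_mul_a, add_comm]
        · rw [xa_mul_a, a_mul_xa]
          congr 1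
          linear_combination h2
    exact isCyclic_of_le hle
  | xa j =>
    have hle : centralizer ({xa j} : Set (QuaternionGroup n)) ≤ zpowers (xa j) := by
      have hn2 : (a (n : ZMod (2 * n)) : QuaternionGroup n) ∈ zpowers (xa j) := by
        rw [← xa_sq j]; exact npow_mem_zpowers _ 2
      have h0 : (a (0 : ZMod (2 * n)) : QuaternionGroup n) ∈ zpowers (xa j) := by
        rw [← QuaternionGroup.one_def]; exact one_mem _
      rintro (k | l) hy
      · have h := mem_centralizer_singleton_iff.1 hy
        rw [a_mul_xa, xa_mul_a] at h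
        injection h with h
        rcases two_mul_eq_zero k (by linear_combination -h) with rfl | rfl
        · exact h0
        · exact hn2
      · have h := mem_centralizer_singleton_iff.1 hy
        rw [xa_mul_xa, xa_mul_xa] at h
        injection h with h
        rcases two_mul_eq_zero (l - j) (by linear_combination -h) with e | e
        · rw [sub_eq_zero.1 e]; exact mem_zpowers _
        · have : (xa l : QuaternionGroup n) = xa j * a (n : ZMod (2 * n)) := by
            rw [xa_mul_a]
            congr 1
            linear_combination e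
          rw [this]
          exact mul_mem (mem_zpowers _) hn2
    exact isCyclic_of_le hle

/-- The easy direction. -/
theorem isCyclic_centralizer_prod {k m : ℕ} (hm : Odd m)
    (x : QuaternionGroup (2 ^ k) × Multiplicative (ZMod m))
    (hx : x ∉ center (QuaternionGroup (2 ^ k) × Multiplicative (ZMod m))) :
    IsCyclic (centralizer ({x} : Set (QuaternionGroup (2 ^ k) × Multiplicative (ZMod m)))) := by
  haveI : NeZero m := ⟨(Odd.pos hm).ne'⟩
  have hq : x.1 ∉ center (QuaternionGroup (2 ^ k)) := fun hc => hx (mem_center_iff.2 fun g =>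
    Prod.ext (mem_center_iff.1 hc g.1) (mul_comm _ _))
  haveI := quaternion_centralizer_isCyclic x.1 hq
  have hcyc : IsCyclic (↥(centralizer ({x.1} : Set (QuaternionGroup (2 ^ k)))) × Multiplicative (ZMod m)) := by
    refine Group.isCyclic_prod_iff.2 ⟨inferInstance, inferInstance, ?_⟩
    have hd : Nat.card (centralizer ({x.1} : Set (QuaternionGroup (2 ^ k)))) ∣ 2 ^ (k + 2) := by
      refine (card_subgroup_dvd_card _).trans (dvd_of_eq ?_)
      rw [Nat.card_eq_fintype_card, QuaternionGroup.card]; ring
    rw [show Nat.card (Multiplicative (ZMod m)) = m by rw [Nat.card_congr Multiplicative.toAdd, Nat.card_zmod]]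
    exact Nat.Coprime.coprime_dvd_left hd (Nat.Coprime.pow_left _ hm.coprime_two_left)
  let f : centralizer ({x} : Set (QuaternionGroup (2 ^ k) × Multiplicative (ZMod m))) →*
      ↥(centralizer ({x.1} : Set (QuaternionGroup (2 ^ k)))) × Multiplicative (ZMod m) :=
    { toFun := fun y => (⟨y.1.1, mem_centralizer_singleton_iff.2
        (congrArg Prod.fst (mem_centralizer_singleton_iff.1 y.2))⟩, y.1.2)
      map_one' := rfl
      map_mul' := fun _ _ => rfl }
  exact isCyclic_of_injective f fun y z h =>
    Subtype.ext (Prod.ext (congrArg Subtype.val (congrArg Prod.fst h)) (congrArg Prod.snd h :))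

variable {G : Type*} [Group G] [Finite G]

/-- The structure theorem. -/
theorem exists_equiv [Group.IsNilpotent G] (hna : ¬ IsMulCommutative G)
    (h : ∀ x : G, x ∉ center G → IsCyclic (centralizer ({x} : Set G))) :
    ∃ (k m : ℕ), 1 ≤ k ∧ Odd m ∧ Nonempty (G ≃* QuaternionGroup (2 ^ k) × Multiplicative (ZMod m)) := by
  classical
  -- some Sylow subgroup is not abelian
  obtain ⟨p, hp, P, a, b, hab⟩ : ∃ (p : ℕ) (_ : p.Prime) (P : Sylow p G) (a b : P), a * b ≠ b * a := by
    by_contra hcon
    push Not at hcon
    apply hna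
    have hnormal : ∀ (q : ℕ) (_hq : q.Prime) (P : Sylow q G), (P : Subgroup G).Normal := fun q hq P => by
      haveI : Fact q.Prime := ⟨hq⟩
      exact P.normal_of_normalizerCondition Group.normalizerCondition_of_isNilpotent
    have hcen : ∀ (q : ℕ) (_hq : q.Prime) (P : Sylow q G), (P : Subgroup G) ≤ center G := by
      intro q hq P a ha
      haveI : Fact q.Prime := ⟨hq⟩
      have htop : centralizer ({a} : Set G) = ⊤ := by
        refine eq_top_of_card_eq _ (Nat.dvd_antisymm (card_subgroup_dvd_card _) ?_)
        refine (Nat.dvd_iff_prime_pow_dvd_dvd _ _).2 fun r j hr hj => ?_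
        haveI : Fact r.Prime := ⟨hr⟩
        obtain ⟨R⟩ : Nonempty (Sylow r G) := inferInstance
        have hRle : (R : Subgroup G) ≤ centralizer ({a} : Set G) := by
          intro c hc
          refine mem_centralizer_singleton_iff.2 ?_
          by_cases hrq : r = q
          · subst hrq
            haveI := hnormal r hr P
            haveI : Unique (Sylow r G) := Sylow.unique_of_normal P inferInstance
            rw [Subsingleton.elim R P] at hc
            exact congrArg Subtype.val (hcon r hr P ⟨c, hc⟩ ⟨a, ha⟩)
          · refine (CfsgLib.FGSA.commute_of_coprime_orderOf c a ?_).eq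
            obtain ⟨i, hi⟩ := IsPGroup.iff_orderOf.1 R.2 ⟨c, hc⟩
            obtain ⟨l, hl⟩ := IsPGroup.iff_orderOf.1 P.2 ⟨a, ha⟩
            rw [← orderOf_coe] at hi hl
            change orderOf c = r ^ i at hi
            change orderOf a = q ^ l at hl
            rw [hi, hl]
            exact ((Nat.coprime_primes hr hq).2 hrq).pow _ _
        refine (dvd_trans ?_ (card_dvd_of_le hRle))
        rw [R.card_eq_multiplicity]
        exact (Nat.Prime.pow_dvd_iff_dvd_ordProj hr Nat.card_pos.ne').1 hj
      rw [mem_center_iff]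
      intro g
      exact mem_centralizer_singleton_iff.1 (htop ▸ mem_top g)
    have htop : center G = ⊤ := by
      refine eq_top_of_card_eq _ (Nat.dvd_antisymm (card_subgroup_dvd_card _) ?_)
      refine (Nat.dvd_iff_prime_pow_dvd_dvd _ _).2 fun r j hr hj => ?_
      haveI : Fact r.Prime := ⟨hr⟩
      obtain ⟨R⟩ : Nonempty (Sylow r G) := inferInstance
      refine dvd_trans ?_ (card_dvd_of_le (hcen r hr R))
      rw [R.card_eq_multiplicity]
      exact (Nat.Prime.pow_dvd_iff_dvd_ordProj hr Nat.card_pos.ne').1 hj
    exact ⟨⟨fun a b => mem_center_iff.1 (htop ▸ mem_top b) a⟩⟩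
  haveI : Fact p.Prime := ⟨hp⟩
  haveI hPn : (P : Subgroup G).Normal := P.normal_of_normalizerCondition Group.normalizerCondition_of_isNilpotent
  obtain ⟨K, hK⟩ := exists_right_complement'_of_coprime P.card_coprime_index
  have hKcard : Nat.card K = (P : Subgroup G).index := hK.symm.index_eq_card.symm
  have hcomm : ∀ u : P, ∀ v : K, Commute (u : G) v := by
    intro u v
    refine CfsgLib.FGSA.commute_of_coprime_orderOf _ _ ?_
    obtain ⟨i, hi⟩ := IsPGroup.iff_orderOf.1 P.2 u
    rw [orderOf_coe, orderOf_coe, hi]
    refine Nat.Coprime.coprime_dvd_right (orderOf_dvd_natCard v) (Nat.Coprime.pow_left _ ?_)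
    rw [hKcard]
    exact hp.coprime_iff_not_dvd.2 P.not_dvd_index
  let F : P × K →* G := MonoidHom.noncommCoprod (P : Subgroup G).subtype K.subtype hcomm
  have hF : Function.Bijective F := by
    rw [Nat.bijective_iff_injective_and_card]
    refine ⟨?_, by rw [Nat.card_prod, hK.card_mul_card]⟩
    intro u v huv
    exact hK.1 (show (u.1 : G) * u.2 = v.1 * v.2 from by simpa [F, MonoidHom.noncommCoprod] using huv)
  let e : G ≃* P × K := (MulEquiv.ofBijective F hF).symm
  have hnc : ∀ u : P, u ∉ center P → (u : G) ∉ center G := fun u hu hc =>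
    hu (mem_center_iff.2 fun w => Subtype.ext (mem_center_iff.1 hc w))
  have hua : a ∉ center P := fun hc => hab (mem_center_iff.1 hc b).symm
  haveI := h _ (hnc a hua)
  haveI hKcyc : IsCyclic K := isCyclic_of_le (fun v hv => mem_centralizer_singleton_iff.2
    (hcomm a ⟨v, hv⟩).symm.eq : K ≤ centralizer ({(a : G)} : Set G))
  have hPc : ∀ u : P, u ∉ center P → IsCyclic (centralizer ({u} : Set P)) := by
    intro u hu
    haveI := h _ (hnc u hu)
    exact isCyclic_of_injective
      ({ toFun := fun w => ⟨((w : P) : G), mem_centralizer_singleton_iff.2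
            (congrArg Subtype.val (mem_centralizer_singleton_iff.1 w.2))⟩
         map_one' := rfl
         map_mul' := fun _ _ => rfl } :
        centralizer ({u} : Set P) →* centralizer ({(u : G)} : Set G))
      fun w w' hw => Subtype.ext (Subtype.ext (congrArg Subtype.val hw :))
  -- one subgroup of order p
  haveI : Nontrivial P := ⟨⟨a, 1, fun e => hua (e ▸ one_mem _)⟩⟩
  haveI := (P.2).center_nontrivial
  obtain ⟨z, hz⟩ := exists_prime_orderOf_dvd_card' p (G := center (P : Subgroup G))
    (((P.2.to_subgroup _).card_eq_or_dvd).resolve_left fun h1 => by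
      haveI := (Nat.card_eq_one_iff_unique.1 h1).1
      exact not_nontrivial (center (P : Subgroup G)) inferInstance)
  have hzo : orderOf (z : P) = p := by rw [orderOf_coe, hz]
  have huniq : ∀ u : P, orderOf u = p → zpowers u = zpowers (z : P) := by
    intro u hu
    obtain ⟨C, hC, huC, hzC⟩ : ∃ C : Subgroup P, IsCyclic C ∧ u ∈ C ∧ (z : P) ∈ C := by
      by_cases huc : u ∈ center P
      · exact ⟨centralizer ({a} : Set P), hPc a hua,
          mem_centralizer_singleton_iff.2 (mem_center_iff.1 huc a).symm,
          mem_centralizer_singleton_iff.2 (mem_center_iff.1 z.2 a).symm⟩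
      · exact ⟨centralizer ({u} : Set P), hPc u huc, mem_centralizer_singleton_iff.2 rfl,
          mem_centralizer_singleton_iff.2 (mem_center_iff.1 z.2 u).symm⟩
    haveI := Fintype.ofFinite C
    have hle := IsCyclic.card_pow_eq_one_le (α := C) (n := p) hp.pos
    refine eq_of_le_of_card_ge (zpowers_le.2 ?_) (by rw [Nat.card_zpowers, Nat.card_zpowers, hu, hzo])
    by_contra hout
    haveI := Fintype.ofFinite (zpowers (⟨(z : P), hzC⟩ : C))
    have hsub : insert (⟨u, huC⟩ : C) ((zpowers (⟨(z : P), hzC⟩ : C)) : Set C).toFinset ⊆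
        Finset.univ.filter fun w : C => w ^ p = 1 := by
      intro w hw
      rw [Finset.mem_insert, Set.mem_toFinset] at hw
      refine Finset.mem_filter.2 ⟨Finset.mem_univ _, Subtype.ext ?_⟩
      rcases hw with rfl | ⟨i, rfl⟩
      · simp [← hu, pow_orderOf_eq_one]
      · simp only [SubgroupClass.coe_pow, SubgroupClass.coe_zpow, OneMemClass.coe_one]
        have hzp : (z : P) ^ p = 1 := orderOf_dvd_iff_pow_eq_one.1 (dvd_of_eq hzo)
        rw [← zpow_natCast, ← zpow_mul, mul_comm, zpow_mul, zpow_natCast, hzp, one_zpow]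
    have hcard := (Finset.card_le_card hsub).trans hle
    have hnot : (⟨u, huC⟩ : C) ∉ ((zpowers (⟨(z : P), hzC⟩ : C)) : Set C).toFinset := by
      rw [Set.mem_toFinset]
      rintro ⟨i, hi⟩
      exact hout ⟨i, congrArg Subtype.val hi⟩
    rw [Finset.card_insert_of_notMem hnot, Set.toFinset_card, ← Nat.card_eq_fintype_card] at hcard
    have hcz : Nat.card (zpowers (⟨(z : P), hzC⟩ : C)) = p := by
      rw [Nat.card_zpowers, ← orderOf_coe, hzo]
    change Nat.card (zpowers (⟨(z : P), hzC⟩ : C)) + 1 ≤ p at hcard
    omega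
  rcases CfsgLib.UniqueInvol.cyclic_or_quaternion P.2
      (fun u v hu hv => by rw [huniq u hu, ← huniq v hv]; exact mem_zpowers v) with hcyc | ⟨rfl, n, hn, ⟨eq⟩⟩
  · exact absurd (hcyc.commGroup.mul_comm a b) hab
  · refine ⟨n, Nat.card K, hn, ?_, ⟨e.trans (eq.prodCongr (zmodCyclicMulEquiv hKcyc).symm)⟩⟩
    rw [hKcard, ← Nat.not_even_iff_odd, even_iff_two_dvd]
    exact P.not_dvd_index

end CfsgLib.CyclicCentralizers
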